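import Cfsg.Agent.H190.E6.WTab
set_option linter.all false

/-!
# The Weyl group of type `E₆`: elements of order divisible by ten
-/

set_option autoImplicit false

namespace Cfsg.Agent.H190.WE6

open Cfsg.Agent.H190.PC

/-- the packed Cartan integers of a root -/
def kc (s : ℕ) : ℕ := Nat.land (Nat.shiftRight ktab (Nat.mul 24 s)) 16777215

/-- the relation `K(s) + K(ws) = K(w⁵s) + K(w⁶s)` -/
def relOK (c : ℕ) : Bool :=
  allB (fun s => Nat.beq (Nat.add (kc s) (kc (get c s))) (Nat.add (kc (it c 5 s)) (kc (it c 6 s)))) 72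

/-- the check on the elements of `W_J` -/
def pJ (c : ℕ) : Bool :=
  powOne 72 c 4 || powOne 72 c 6 || allB (fun x => Nat.beq x 0 || Nat.beq x 71 || !(Nat.beq (get c x) x)) 72

/-- the check on the elements of `W_J` and `u₀ W_J` -/
def pT (c : ℕ) : Bool := powOne 72 c 4 || powOne 72 c 6 || powOne 72 c 5 || relOK c

set_option maxRecDepth 100000 in
theorem level_ok : level 72 gens gensJ X = true := by decide +kernel

set_option maxRecDepth 100000 in
theorem chain_ok : chain 72 gensJ chainJ = true := by decide +kernel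

set_option maxRecDepth 100000 in
theorem all_J : allProd 72 pJ (chainJ.map Prod.snd) (one 72) = true := by decide +kernel

theorem allProd_two {n : ℕ} {P : ℕ → Bool} {x y a : ℕ} {L : List (List ℕ)}
    (h1 : allProd n P L (mul n a x) = true) (h2 : allProd n P L (mul n a y) = true) :
    allProd n P ([x, y] :: L) a = true := by
  rw [allProd, List.all_cons, List.all_cons, h1, h2]
  rfl

set_option maxRecDepth 100000 in
theorem all_T0 : allProd 72 pT (chainJ.map Prod.snd) (mul 72 (one 72) (one 72)) = true := by decide +kernel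

set_option maxRecDepth 100000 in
theorem all_T1 : allProd 72 pT (chainJ.map Prod.snd) (mul 72 (one 72) u0) = true := by decide +kernel

theorem all_T : allProd 72 pT ([one 72, u0] :: chainJ.map Prod.snd) (one 72) = true :=
  allProd_two all_T0 all_T1

theorem codes_gens : ∀ c ∈ gens, ∃ w : Equiv.Perm (Fin 72), Codes c w := by
  have h : ∀ c ∈ gens, (∀ x : Fin 72, get c x < 72) ∧ ∀ x : Fin 72, get c (get c x) = x := by
    decide +kernel
  intro c hc
  obtain ⟨h1, h2⟩ := h c hc
  let f : Fin 72 → Fin 72 := fun x => ⟨get c x, h1 x⟩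
  have hf : ∀ x, f (f x) = x := fun x => Fin.ext (h2 x)
  exact ⟨⟨f, f, hf, hf⟩, fun x => rfl⟩

theorem sub_gens : ∀ p ∈ chainJ, ∀ c ∈ p.1, c ∈ gens := by decide +kernel

theorem sub_J : ∀ c ∈ gensJ, c ∈ gens := by decide +kernel

theorem fix_J : ∀ c ∈ gensJ, get c 71 = 71 := by decide +kernel

theorem X_fix : ∀ x ∈ X, get x 71 = 71 → x = one 72 := by decide +kernel

theorem X_neg : ∀ x ∈ X, get x 71 = 0 → x = u0 := by decide +kernel

theorem incr : ∀ b : Fin 72, b = 71 ∨ ∃ c ∈ gens, (b : ℕ) < get c b := by decide +kernel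

/-- the group generated by the simple reflections -/
abbrev W : Subgroup (Equiv.Perm (Fin 72)) := Subgroup.closure (PS 72 gens)

theorem fix_of_mem {v : Equiv.Perm (Fin 72)} (hv : v ∈ Subgroup.closure (PS 72 gensJ)) : v 71 = 71 := by
  have h : Subgroup.closure (PS 72 gensJ) ≤ MulAction.stabilizer (Equiv.Perm (Fin 72)) (71 : Fin 72) := by
    rw [Subgroup.closure_le]
    rintro w ⟨c, hc, hcw⟩
    show w 71 = 71
    apply Fin.ext
    rw [← hcw 71]
    exact fix_J c hc
  exact h hv

/-- transitivity -/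
theorem trans (b : Fin 72) : ∃ g ∈ W, g b = 71 := by
  have key : ∀ n : ℕ, ∀ b : Fin 72, 71 - (b : ℕ) = n → ∃ g ∈ W, g b = 71 := by
    intro n
    induction n using Nat.strong_induction_on with
    | _ n ih =>
      intro b hb
      rcases incr b with h | ⟨c, hc, h⟩
      · exact ⟨1, Subgroup.one_mem _, h⟩
      · obtain ⟨w, hw⟩ := codes_gens c hc
        rw [hw b] at h
        have h2 : ((w b : Fin 72) : ℕ) < 72 := (w b).2
        obtain ⟨g, hg, hgb⟩ := ih (71 - (w b : ℕ)) (by omega) (w b) rfl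
        exact ⟨g * w, Subgroup.mul_mem _ hg (Subgroup.subset_closure ⟨c, hc, hw⟩), hgb⟩
  exact key _ b rfl

theorem stab {w : Equiv.Perm (Fin 72)} (hw : w ∈ W) (h : w 71 = 71) : w ∈ Subgroup.closure (PS 72 gensJ) := by
  obtain ⟨u, ⟨x, hx, hxu⟩, v, hv, rfl⟩ :=
    level_spec (by norm_num) (fun c hc => codes_gens c (sub_J c hc)) level_ok w hw
  have h1 : u 71 = 71 := by
    rw [Equiv.Perm.mul_apply, fix_of_mem hv] at h
    exact h
  have h2 := X_fix x hx (by
    have := hxu 71
    rw [h1] at this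
    exact this)
  have h3 : u = 1 := hxu.unique (h2 ▸ codes_one (by norm_num))
  rw [h3, one_mul]
  exact hv

theorem stab' {w : Equiv.Perm (Fin 72)} (hw : w ∈ W) (h : w 71 = 71 ∨ w 71 = 0) :
    w ∈ Prods 72 ([one 72, u0] :: chainJ.map Prod.snd) := by
  have hJ : ∀ v ∈ Subgroup.closure (PS 72 gensJ), v ∈ Prods 72 (chainJ.map Prod.snd) := fun v hv =>
    chain_spec (by norm_num) chainJ gensJ (fun p hp c hc => codes_gens c (sub_gens p hp c hc)) chain_ok v hv
  rcases h with h | h
  · refine ⟨1, ⟨one 72, List.mem_cons_self, codes_one (by norm_num)⟩, w, hJ w (stab hw h), (one_mul w).symm⟩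
  · obtain ⟨u, ⟨x, hx, hxu⟩, v, hv, rfl⟩ :=
      level_spec (by norm_num) (fun c hc => codes_gens c (sub_J c hc)) level_ok w hw
    have h1 : u 71 = 0 := by
      rw [Equiv.Perm.mul_apply, fix_of_mem hv] at h
      exact h
    have h2 := X_neg x hx (by
      have := hxu 71
      rw [h1] at this
      exact this)
    exact ⟨u, ⟨u0, by simp, h2 ▸ hxu⟩, v, hJ v hv, rfl⟩

/-- a `5`-element that fixes the root `71` fixes only `71` and `0` -/
theorem five {c : Equiv.Perm (Fin 72)} (hc : c ∈ W) (h71 : c 71 = 71) {a : ℕ} (ha : c ^ 5 ^ a = 1) (h1 : c ≠ 1) :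
    ∀ x, c x = x → x = 0 ∨ x = 71 := by
  have h2 := chain_spec (by norm_num) chainJ gensJ (fun p hp c hc => codes_gens c (sub_gens p hp c hc)) chain_ok c
    (stab hc h71)
  obtain ⟨d, hd, hP⟩ := allProd_spec pJ _ _ 1 (codes_one (by norm_num)) all_J c h2
  rw [one_mul] at hd
  unfold pJ at hP
  rw [Bool.or_eq_true, Bool.or_eq_true] at hP
  have hcop : ∀ m, Nat.Coprime m 5 → c ^ m = 1 → False := by
    intro m hm h
    apply h1
    have h3 := Nat.dvd_gcd (orderOf_dvd_of_pow_eq_one h) (orderOf_dvd_of_pow_eq_one ha)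
    rw [Nat.Coprime.pow_right a hm] at h3
    exact orderOf_eq_one_iff.1 (Nat.dvd_one.1 h3)
  rcases hP with (h | h) | h
  · exact (hcop 4 (by norm_num) (powOne_spec hd h)).elim
  · exact (hcop 6 (by norm_num) (powOne_spec hd h)).elim
  · intro x hx
    have h3 := allB_spec h x x.2
    rw [Bool.or_eq_true, Bool.or_eq_true] at h3
    rcases h3 with (h3 | h3) | h3
    · exact Or.inl (Fin.ext (Nat.eq_of_beq_eq_true h3))
    · exact Or.inr (Fin.ext (Nat.eq_of_beq_eq_true h3))
    · exfalso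
      have h4 := hd x
      rw [hx] at h4
      rw [h4] at h3
      simp at h3

/-- the four possibilities for elements that map `θ` to `± θ` -/
theorem four_cases {w : Equiv.Perm (Fin 72)} (hw : w ∈ W) (h : w 71 = 71 ∨ w 71 = 0) :
    w ^ 4 = 1 ∨ w ^ 6 = 1 ∨ w ^ 5 = 1 ∨
      ∀ s : Fin 72, kc s + kc (w s : Fin 72) = kc ((w ^ 5) s : Fin 72) + kc ((w ^ 6) s : Fin 72) := by
  obtain ⟨d, hd, hP⟩ := allProd_spec pT _ _ 1 (codes_one (by norm_num)) all_T w (stab' hw h)
  rw [one_mul] at hd
  unfold pT at hP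
  rw [Bool.or_eq_true, Bool.or_eq_true, Bool.or_eq_true] at hP
  rcases hP with ((h | h) | h) | h
  · exact Or.inl (powOne_spec hd h)
  · exact Or.inr (Or.inl (powOne_spec hd h))
  · exact Or.inr (Or.inr (Or.inl (powOne_spec hd h)))
  · refine Or.inr (Or.inr (Or.inr fun s => ?_))
    have h3 := Nat.eq_of_beq_eq_true (allB_spec h s s.2)
    rw [it_spec hd, it_spec hd, hd s] at h3
    exact h3

/-- **the elements of order divisible by ten** -/
theorem main {w : Equiv.Perm (Fin 72)} (hw : w ∈ W) (h10 : ∀ m, w ^ m = 1 → 10 ∣ m) :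
    ∃ g ∈ W, ∀ s : Fin 72, kc (g s : Fin 72) + kc (g (w s) : Fin 72) =
      kc (g ((w ^ 5) s) : Fin 72) + kc (g ((w ^ 6) s) : Fin 72) := by
  classical
  have h5 : Fact (Nat.Prime 5) := ⟨by norm_num⟩
  obtain ⟨a, M, hM, hN⟩ := Nat.exists_eq_pow_mul_and_not_dvd (orderOf_pos w).ne' 5 (by norm_num)
  set c := w ^ M with hc
  have hcW : c ∈ W := Subgroup.pow_mem _ hw M
  have hca : c ^ 5 ^ a = 1 := by
    rw [hc, ← pow_mul, mul_comm, ← hN, pow_orderOf_eq_one]
  have hc1 : c ≠ 1 := fun h => hM ((by norm_num : 5 ∣ 10).trans (h10 M h))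
  -- a fixed root
  obtain ⟨b, hb⟩ : ∃ b : Fin 72, c b = b := by
    let F : Function.End (Fin 72) := fun x => c x
    have hF : ∀ (m : ℕ) (x : Fin 72), (F ^ m : Function.End (Fin 72)) x = (c ^ m) x := by
      intro m
      induction m with
      | zero => intro x; rfl
      | succ m ih =>
        intro x
        rw [pow_succ, pow_succ]
        show (F ^ m : Function.End (Fin 72)) (c x) = (c ^ m) (c x)
        exact ih _
    have h1 := Equiv.Perm.card_fixedPoints_modEq (α := Fin 72) (f := F) (p := 5) (n := a) (by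
      funext x
      rw [hF, hca]
      rfl)
    by_contra hno
    push Not at hno
    have h2 : IsEmpty (Function.fixedPoints F) := ⟨fun x => hno x x.2⟩
    rw [Fintype.card_eq_zero_iff.2 h2, Fintype.card_fin] at h1
    revert h1
    decide
  obtain ⟨g, hg, hgb⟩ := trans b
  refine ⟨g, hg, ?_⟩
  set w' := g * w * g⁻¹ with hw'
  have hw'W : w' ∈ W := Subgroup.mul_mem _ (Subgroup.mul_mem _ hg hw) (Subgroup.inv_mem _ hg)
  have hpow : ∀ m : ℕ, w' ^ m = g * w ^ m * g⁻¹ := fun m => conj_pow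
  have hback : ∀ m : ℕ, w' ^ m = 1 → w ^ m = 1 := by
    intro m h
    rw [hpow, mul_inv_eq_one, mul_eq_left] at h
    exact h
  have hc' : w' ^ M ∈ W := Subgroup.pow_mem _ hw'W M
  have hgb' : g⁻¹ 71 = b := by rw [← hgb]; exact g.symm_apply_apply b
  have h71 : (w' ^ M) 71 = 71 := by
    rw [hpow]
    show g ((w ^ M) (g⁻¹ 71)) = 71
    rw [hgb', ← hc, hb, hgb]
  have hfix := five hc' h71 (a := a) (by
    rw [hpow, conj_pow, ← hc, hca]; simp) (fun h => hc1 (hback M h))
  have h3 : w' 71 = 71 ∨ w' 71 = 0 := by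
    have h4 : (w' ^ M) (w' 71) = w' 71 := by
      rw [← Equiv.Perm.mul_apply, ← pow_succ, pow_succ', Equiv.Perm.mul_apply, h71]
    exact (hfix _ h4).symm
  rcases four_cases hw'W h3 with h | h | h | h
  · exact absurd (h10 4 (hback 4 h)) (by norm_num)
  · exact absurd (h10 6 (hback 6 h)) (by norm_num)
  · exact absurd (h10 5 (hback 5 h)) (by norm_num)
  · intro s
    have h4 := h (g s)
    rw [hpow, hpow] at h4
    have h5 : w' (g s) = g (w s) := by
      rw [hw']
      show g (w (g.symm (g s))) = _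
      rw [Equiv.symm_apply_apply]
    have h6 : ∀ m : ℕ, (g * w ^ m * g⁻¹) (g s) = g ((w ^ m) s) := by
      intro m
      show g ((w ^ m) (g.symm (g s))) = _
      rw [Equiv.symm_apply_apply]
    rw [h5, h6, h6] at h4
    exact h4

end Cfsg.Agent.H190.WE6
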