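import Cfsg.Agent.H190.E6.Symp
set_option linter.all false

/-!
# An `11`-element that normalises a `2`-group or a `3`-group of isometries of the cubic form centralises it
-/

set_option autoImplicit false

namespace Cfsg.Agent.H190.E6

open Module Subgroup

variable {k : Type*} [Field k] [IsAlgClosed k] {V : Type*} [AddCommGroup V] [Module k V] [FiniteDimensional k V]

/-- conjugation by `s` -/
def conjAut {G : Type*} [Group G] (s : G) (P : Subgroup G) (h1 : ∀ x ∈ P, s * x * s⁻¹ ∈ P)
    (h2 : ∀ x ∈ P, s⁻¹ * x * s ∈ P) : ↥P ≃* ↥P where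
  toFun x := ⟨s * x * s⁻¹, h1 x x.2⟩
  invFun x := ⟨s⁻¹ * x * s, h2 x x.2⟩
  left_inv x := Subtype.ext (by simp [mul_assoc])
  right_inv x := Subtype.ext (by simp [mul_assoc])
  map_mul' x y := Subtype.ext (by simp [mul_assoc])

theorem conjAut_iter {G : Type*} [Group G] {s : G} {P : Subgroup G} (h1 : ∀ x ∈ P, s * x * s⁻¹ ∈ P)
    (h2 : ∀ x ∈ P, s⁻¹ * x * s ∈ P) (j : ℕ) (x : ↥P) :
    (((conjAut s P h1 h2)^[j] x : ↥P) : G) = s ^ j * x * (s ^ j)⁻¹ := by
  induction j with
  | zero => simp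
  | succ j ih =>
    rw [Function.iterate_succ_apply']
    show s * (((conjAut s P h1 h2)^[j] x : ↥P) : G) * s⁻¹ = _
    rw [ih, pow_succ', mul_inv_rev]
    simp only [mul_assoc]

/-- **Lemma Q** -/
theorem lemQ {B : V →ₗ[k] V →ₗ[k] V →ₗ[k] k} (hB : Cubic B) {l : ℕ} (hl : l = 2 ∨ l = 3) (hlk : (l : k) ≠ 0)
    (P : Subgroup (Module.End k V)ˣ) [Finite ↥P] (hP : IsPGroup l ↥P) (hPB : ∀ g ∈ P, Inv B g)
    {s : (Module.End k V)ˣ} (hs : ∃ a, s ^ 11 ^ a = 1) (hsP : ∀ x ∈ P, s * x * s⁻¹ ∈ P) :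
    ∀ x ∈ P, s * x * s⁻¹ = x := by
  classical
  by_contra hall
  have hlp : Fact l.Prime := ⟨by rcases hl with rfl | rfl <;> norm_num⟩
  obtain ⟨a, ha⟩ := hs
  -- a minimal bad subgroup
  have hfin : {R : Subgroup (Module.End k V)ˣ | R ≤ P ∧ (∀ x ∈ R, s * x * s⁻¹ ∈ R) ∧ ¬ ∀ x ∈ R, s * x * s⁻¹ = x}.Finite := by
    have h1 : Set.Finite {R : Subgroup (Module.End k V)ˣ | R ≤ P} := by
      have h2 : Set.Finite (P : Set (Module.End k V)ˣ) := Set.toFinite _
      refine Set.Finite.of_finite_image (f := fun R : Subgroup (Module.End k V)ˣ => (R : Set (Module.End k V)ˣ))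
        (h2.finite_subsets.subset ?_) (fun R _ R' _ h => SetLike.coe_injective h)
      rintro _ ⟨R, hR, rfl⟩
      exact hR
    exact h1.subset fun R hR => hR.1
  obtain ⟨R, ⟨hRP, hRs, hRn⟩, hRmin⟩ := hfin.exists_minimal ⟨P, le_rfl, hsP, hall⟩
  have hRfin : Finite ↥R := Finite.of_injective _ (Subgroup.inclusion_injective hRP)
  have hRpow : ∀ (j : ℕ) (x : (Module.End k V)ˣ), x ∈ R → s ^ j * x * (s ^ j)⁻¹ ∈ R := by
    intro j
    induction j with
    | zero => intro x hx; simpa using hx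
    | succ j ih =>
      intro x hx
      have := hRs _ (ih x hx)
      rw [pow_succ', mul_inv_rev]
      simpa only [mul_assoc] using this
  have hRs' : ∀ x ∈ R, s⁻¹ * x * s ∈ R := by
    intro x hx
    have h1 := hRpow (11 ^ a - 1) x hx
    have h2 : s ^ (11 ^ a - 1) = s⁻¹ := by
      rw [eq_inv_iff_mul_eq_one, ← pow_succ, Nat.sub_add_cancel (Nat.one_le_pow _ _ (by norm_num)), ha]
    rw [h2, inv_inv] at h1
    exact h1
  have hRp : IsPGroup l ↥R := hP.to_le hRP
  set σ : ↥R ≃* ↥R := conjAut s R hRs hRs' with hσ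
  have hM : MinAut σ (11 ^ a) := by
    refine ⟨?_, ?_, ?_, ?_⟩
    · by_contra h
      push Not at h
      apply hRn
      intro x hx
      exact congrArg Subtype.val (h ⟨x, hx⟩)
    · intro x
      apply Subtype.ext
      rw [conjAut_iter, ha]
      simp
    · intro x hx
      obtain ⟨j, hj⟩ := hRp x
      have hc : Nat.Coprime (11 ^ a) (l ^ j) := by
        apply Nat.Coprime.pow
        rcases hl with rfl | rfl <;> norm_num
      have h1 := Nat.dvd_gcd (orderOf_dvd_of_pow_eq_one hx) (orderOf_dvd_of_pow_eq_one hj)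
      rw [hc] at h1
      exact orderOf_eq_one_iff.1 (Nat.dvd_one.1 h1)
    · intro Q hQ
      by_cases h : ∀ x ∈ Q, σ x = x
      · exact Or.inr h
      · left
        have h1 := hRmin (y := Q.map R.subtype) ⟨?_, ?_, ?_⟩ ?_
        · rw [eq_top_iff]
          intro x _
          obtain ⟨y, hy, hyx⟩ := h1 x.2
          have : y = x := Subtype.ext hyx
          rw [← this]
          exact hy
        · rintro _ ⟨y, -, rfl⟩
          exact hRP y.2
        · rintro _ ⟨y, hy, rfl⟩
          exact ⟨σ y, hQ y hy, rfl⟩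
        · intro h2
          apply h
          intro x hx
          apply Subtype.ext
          exact h2 x ⟨x, hx, rfl⟩
        · rintro _ ⟨y, -, rfl⟩
          exact y.2
  by_cases hab : center ↥R = ⊤
  · -- abelian case
    have hcomm : ∀ x y : ↥R, x * y = y * x := by
      intro x y
      have : y ∈ center ↥R := by rw [hab]; trivial
      exact mem_center_iff.1 this x
    have hexp := hM.exponent (l := l) (fun x => hRp x) hcomm
    have hbot : R = ⊥ := by
      refine eq_bot_of_elementary hB hl hlk (fun g hg => hPB g (hRP hg)) ?_ ?_ hRs hRs' ⟨a, ha⟩ ?_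
      · intro x hx y hy
        exact congrArg Subtype.val (hcomm ⟨x, hx⟩ ⟨y, hy⟩)
      · intro x hx
        exact congrArg Subtype.val (hexp ⟨x, hx⟩)
      · intro x hx
        have h1 : (⟨x, hx⟩ : ↥R) ∈ closure {y | ∃ x, y = x⁻¹ * σ x} := by rw [hM.closure_eq]; trivial
        have h2 : (closure {y | ∃ x, y = x⁻¹ * σ x}).map R.subtype ≤
            closure {y | ∃ x ∈ R, y = x⁻¹ * (s * x * s⁻¹)} := by
          rw [map_le_iff_le_comap, closure_le]
          rintro _ ⟨y, rfl⟩
          exact subset_closure ⟨y, y.2, rfl⟩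
        exact h2 ⟨_, h1, rfl⟩
    obtain ⟨x, hx⟩ := hM.ne
    apply hx
    have : Subsingleton ↥R := by rw [hbot]; infer_instance
    exact Subsingleton.elim _ _
  · obtain ⟨hc1, hc2, -⟩ := hM.nonabelian hRp hab
    obtain ⟨m, hm27, hmi, Bs, hBs⟩ := exists_sq hlk (IsPGroup.iff_card.1 hRp) ((Units.coeHom _).comp R.subtype)
      (fun x y h => Subtype.ext (Units.ext h)) σ hc1 hab
      (fun N hN hσN hne => hM.le_center hN hσN hne) hc2
    have h11 : Fact (Nat.Prime 11) := ⟨by norm_num⟩
    have hmod := hM.card_quot hRp hab (q := 11) rfl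
    rw [hmi] at hmod
    rw [hB.dim] at hm27
    obtain ⟨e, he⟩ := IsPGroup.iff_card.1 hRp
    have hdvd : m ∣ l ^ e := by
      rw [← he, ← hBs]
      exact Bs.index_dvd_card
    obtain ⟨j, -, hj⟩ := (Nat.dvd_prime_pow hlp.out).1 hdvd
    have hm1 : m = 1 := by
      have hj5 : j < 5 := by
        by_contra h
        push Not at h
        have h1 : 2 ^ 5 ≤ l ^ j :=
          (Nat.pow_le_pow_left hlp.out.two_le 5).trans (Nat.pow_le_pow_right hlp.out.pos h)
        rw [← hj] at h1
        omega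
      rcases hl with rfl | rfl
      · interval_cases j <;> subst hj <;> first | rfl | (exfalso; revert hmod; decide)
      · interval_cases j <;> subst hj <;> first | rfl | (exfalso; revert hmod; decide)
    apply hab
    rw [hm1] at hmi
    exact index_eq_one.1 (by rw [hmi]; rfl)

end Cfsg.Agent.H190.E6
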